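import Cfsg.Agent.CosetEnum.Orbit

/-! Generated orbit certificate: a relator of the alternating subgroup. -/

set_option autoImplicit false
set_option maxRecDepth 100000

namespace CfsgLib.CosetEnum.ON.JankoFive

open CfsgLib.CosetEnum

noncomputable def epFLeaf (c : ℕ) : ℕ :=
  0x11410000000011420004400011010004300010c20004200010800004100010420004000010000003f0000fc20003e0000f810003d0000f420003c0000f000003b0000ec20003a0000e81000390000e42000380000e00000370000dc2000360000d81000350000d42000340000d00000330000cc2000320000c80000310000c42000300000c010002f0000bc20002e0000b800002d0000b420002c0000b010002b0000ac20002a0000a80000290000a42000280000a010002700009c20002600009800002500009420002400009000002300008c20002200008810002100008420002000008000001f00007c20001e00007810001d00007420001c00007000001b00006c20001a00006810001900006420001800006000001700005c20001600005800001500005420001400005010001300004c20001200004800001100004420001000004010000f00003c20000e00003800000d00003420000c00003010000b00002c20000a00002800000900002420000800002000000700001c20000600001810000500001420000400001000000300000c200002000008100001000004200000000003f00000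

/-- table entries -/
noncomputable def epF (i : ℕ) : ℕ :=
  ((epFLeaf (i >>> 9)) >>> (48 * (i % 512))) % 281474976710656

noncomputable def nodeFLeaf (c : ℕ) : ℕ :=
  0x0

/-- table entries -/
noncomputable def nodeF (i : ℕ) : ℕ :=
  ((nodeFLeaf (i >>> 10)) >>> (20 * (i % 1024))) % 1048576

noncomputable def nextFLeaf (c : ℕ) : ℕ :=
  0x0

/-- table entries -/
noncomputable def nextF (i : ℕ) : ℕ :=
  ((nextFLeaf (i >>> 10)) >>> (20 * (i % 1024))) % 1048576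

/-- relators, then generators of the subgroup -/
def words : List (List ℕ) := [[0, 0, 0], [2, 0, 2, 0, 2, 0, 2, 0, 2, 0, 2, 0, 2, 0], [2, 0, 2, 0, 2, 1, 2, 0, 2, 1, 2, 0, 2, 1, 2, 0, 2, 0, 2, 1, 2, 0, 2, 1, 2, 0, 2, 1, 2, 0, 2, 0, 2, 1, 2, 0, 2, 1, 2, 0, 2, 1, 2, 0, 2, 0, 2, 1, 2, 0, 2, 1, 2, 0, 2, 1, 2, 0, 2, 0, 2, 1, 2, 0, 2, 1, 2, 0, 2, 1], [2, 0, 2, 0, 2, 1, 2, 0, 2, 1, 2, 0, 2, 1, 2, 0, 2, 1, 2, 0, 2, 1, 2, 0, 2, 1, 2, 0, 2, 0, 2, 1, 2, 1, 2, 0, 2, 0, 2, 1, 2, 0, 2, 1, 2, 0, 2, 1, 2, 0, 2, 1, 2, 0, 2, 1, 2, 0, 2, 1, 2, 0, 2, 0, 2, 1, 2, 1], [1, 1, 1], [1, 2, 1, 2, 1, 2, 1, 2, 1, 2, 1, 2, 1, 2], [0, 2, 1, 2, 0, 2, 1, 2, 0, 2, 1, 2, 1, 2, 0, 2, 1, 2, 0, 2, 1, 2, 0, 2, 1, 2, 1, 2, 0, 2, 1, 2, 0, 2, 1, 2, 0, 2, 1, 2, 1, 2, 0, 2, 1, 2, 0, 2, 1, 2, 0, 2, 1, 2, 1, 2, 0, 2, 1, 2, 0, 2, 1, 2, 0, 2, 1, 2, 1, 2], [0, 2, 0, 2, 1, 2, 1, 2, 0, 2, 1, 2, 0, 2, 1, 2, 0, 2,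 1, 2, 0, 2, 1, 2, 0, 2, 1, 2, 0, 2, 1, 2, 1, 2, 0, 2, 0, 2, 1, 2, 1, 2, 0, 2, 1, 2, 0, 2, 1, 2, 0, 2, 1, 2, 0, 2, 1, 2, 0, 2, 1, 2, 0, 2, 1, 2, 1, 2]]

/-- the words whose orbit is certified -/
def orbitWords : List (List ℕ) := [[2, 1, 2, 0, 2, 1, 2, 0, 2, 0, 2, 1, 2, 0, 2, 1, 2, 0, 2, 1, 2, 0, 2, 0, 2, 1, 2, 0, 2, 1, 2, 0, 2, 1, 2, 0, 2, 0, 2, 1, 2, 0, 2, 1, 2, 0, 2, 1, 2, 0, 2, 0, 2, 1, 2, 0, 2, 1, 2, 0, 2, 1, 2, 0, 2, 0, 2, 1, 2, 0]]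

end CfsgLib.CosetEnum.ON.JankoFive
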